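import Mathlib.FieldTheory.IsAlgClosed.Basic
import Mathlib.RingTheory.Jacobson.Ring
import Mathlib.RingTheory.Nullstellensatz
import Mathlib.LinearAlgebra.TensorProduct.Basis
import Mathlib.RingTheory.Flat.Basic

/-! Over an algebraically closed field a tensor product of domains is a domain. -/

open scoped TensorProduct

namespace Groth.Agent.FieldExtConn

theorem isDomain_tensor_of_isAlgClosed (k : Type*) [Field k] [IsAlgClosed k] (A B : Type*)
    [CommRing A] [IsDomain A] [Algebra k A] [CommRing B] [IsDomain B] [Algebra k B] :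
    IsDomain (A ⊗[k] B) := by
  classical
  let b := Module.Free.chooseBasis k B
  let e := TensorProduct.equivFinsuppOfBasisRight (M := A) b
  have : Nontrivial (A ⊗[k] B) := e.toEquiv.nontrivial
  have : NoZeroDivisors (A ⊗[k] B) := ⟨fun {x y} hxy => by
    let S : Subalgebra k A :=
      Algebra.adjoin k (((e x).support.image (e x) ∪ (e y).support.image (e y) : Finset A) : Set A)
    have hfg : S.FG := Subalgebra.fg_adjoin_finset _
    have : Algebra.FiniteType k S := (Subalgebra.fg_iff_finiteType _).1 hfg
    let eS := TensorProduct.equivFinsuppOfBasisRight (M := S) b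
    let incl := Algebra.TensorProduct.map S.val (AlgHom.id k B)
    have hinj : Function.Injective incl :=
      Module.Flat.rTensor_preserves_injective_linearMap (M := B) S.val.toLinearMap
        Subtype.val_injective
    have hcoef : ∀ (z : S ⊗[k] B) i, e (incl z) i = S.val (eS z i) := by
      intro z i
      induction z using TensorProduct.induction_on with
      | zero => simp
      | tmul a c => simp [e, eS, incl]
      | add u v hu hv => simp only [map_add, Finsupp.coe_add, Pi.add_apply, hu, hv]
    have hlift : ∀ z : A ⊗[k] B, (∀ i, e z i ∈ S) → ∃ z₀ : S ⊗[k] B, incl z₀ = z := by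
      intro z hz
      refine ⟨eS.symm (Finsupp.onFinset (e z).support (fun i => ⟨e z i, hz i⟩) fun i hi => ?_), ?_⟩
      · simpa [Subtype.ext_iff] using hi
      · apply e.injective
        ext i
        rw [hcoef, eS.apply_symm_apply]
        rfl
    have hmemx : ∀ i, e x i ∈ S := fun i => by
      by_cases hi : e x i = 0
      · rw [hi]; exact S.zero_mem
      · exact Algebra.subset_adjoin (Finset.mem_coe.2 (Finset.mem_union_left _
          (Finset.mem_image.2 ⟨i, Finsupp.mem_support_iff.2 hi, rfl⟩)))
    have hmemy : ∀ i, e y i ∈ S := fun i => by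
      by_cases hi : e y i = 0
      · rw [hi]; exact S.zero_mem
      · exact Algebra.subset_adjoin (Finset.mem_coe.2 (Finset.mem_union_right _
          (Finset.mem_image.2 ⟨i, Finsupp.mem_support_iff.2 hi, rfl⟩)))
    obtain ⟨x₀, hx₀⟩ := hlift x hmemx
    obtain ⟨y₀, hy₀⟩ := hlift y hmemy
    rw [← hx₀, ← hy₀, ← map_mul, map_eq_zero_iff _ hinj] at hxy
    suffices ∀ i j, eS x₀ i * eS y₀ j = 0 by
      by_contra hne
      simp only [not_or, ← hx₀, ← hy₀, map_eq_zero_iff _ hinj] at hne
      obtain ⟨i, hi⟩ := Finsupp.ne_iff.1 (eS.map_ne_zero_iff.2 hne.1)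
      obtain ⟨j, hj⟩ := Finsupp.ne_iff.1 (eS.map_ne_zero_iff.2 hne.2)
      exact mul_ne_zero hi hj (this i j)
    intro i j
    have : IsJacobsonRing S := isJacobsonRing_of_finiteType (A := k)
    rw [← Ideal.mem_bot (R := S), ← Ideal.IsPrime.radical (Ideal.isPrime_bot (α := S)), Ideal.radical_eq_jacobson]
    simp only [Ideal.jacobson, Ideal.mem_sInf, Set.mem_ofPred_eq]
    rintro m ⟨-, hm⟩
    let : Field (S ⧸ m) := Ideal.Quotient.field m
    have : Algebra.FiniteType k (S ⧸ m) :=
      Algebra.FiniteType.of_surjective (Ideal.Quotient.mkₐ k m) Ideal.Quotient.mk_surjective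
    have : Module.Finite k (S ⧸ m) := finite_of_finite_type_of_isJacobsonRing k _
    have hbij : Function.Bijective (algebraMap k (S ⧸ m)) :=
      IsAlgClosed.algebraMap_bijective_of_isIntegral
    let ev : S →ₐ[k] k :=
      (AlgEquiv.ofBijective (Algebra.ofId k (S ⧸ m)) hbij).symm.toAlgHom.comp (Ideal.Quotient.mkₐ k m)
    let E := (Algebra.TensorProduct.lid k B).toAlgHom.comp (Algebra.TensorProduct.map ev (AlgHom.id k B))
    have hE : ∀ z i, b.repr (E z) i = ev (eS z i) := by
      intro z i
      induction z using TensorProduct.induction_on with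
      | zero => simp
      | tmul a c => simp [E, eS, mul_comm]
      | add u v hu hv => simp only [map_add, Finsupp.coe_add, Pi.add_apply, hu, hv]
    have h0 : E x₀ * E y₀ = 0 := by rw [← map_mul, hxy, map_zero]
    have hev : ev (eS x₀ i * eS y₀ j) = 0 := by
      rw [map_mul, ← hE, ← hE]
      rcases mul_eq_zero.1 h0 with h | h <;> simp [h]
    simp only [ev, AlgHom.comp_apply, AlgEquiv.coe_toAlgHom, EmbeddingLike.map_eq_zero_iff,
      Ideal.Quotient.mkₐ_eq_mk, Ideal.Quotient.eq_zero_iff_mem] at hev
    exact hev⟩
  exact NoZeroDivisors.to_isDomain _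

end Groth.Agent.FieldExtConn
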