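import Mathlib.AlgebraicGeometry.Geometrically.Connected
import Mathlib.AlgebraicGeometry.Morphisms.Finite
import Mathlib.AlgebraicGeometry.Morphisms.Integral
import Mathlib.AlgebraicGeometry.Fiber
import Mathlib.AlgebraicGeometry.Morphisms.UniversallyOpen
import Mathlib.AlgebraicGeometry.Morphisms.QuasiFinite
import Mathlib.FieldTheory.IsAlgClosed.AlgebraicClosure
import Mathlib.FieldTheory.IntermediateField.Adjoin.Basic
import Groth.Agent.FieldExtConn.TensorDomain
import Groth.Agent.FieldExtConn.Topology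

/-! Connected components of base changes along field extensions. -/

open CategoryTheory CategoryTheory.Limits AlgebraicGeometry
open scoped TensorProduct

universe u

namespace Groth.Agent.FieldExtConn

variable {k : Type u} [Field k] {X : Scheme.{u}} (f : X ⟶ Spec (CommRingCat.of k))

/-- The structure map of a field extension. -/
noncomputable abbrev ext (k K : Type u) [Field k] [Field K] [Algebra k K] :
    Spec (CommRingCat.of K) ⟶ Spec (CommRingCat.of k) :=
  Spec.map (CommRingCat.ofHom (algebraMap k K))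

/-- `Spec` of a map of extensions. -/
noncomputable abbrev extMap {L K : Type u} [Field L] [Field K] [Algebra k L] [Algebra k K]
    (φ : L →ₐ[k] K) : Spec (CommRingCat.of K) ⟶ Spec (CommRingCat.of L) :=
  Spec.map (CommRingCat.ofHom φ.toRingHom)

theorem extMap_comp_ext {L K : Type u} [Field L] [Field K] [Algebra k L] [Algebra k K]
    (φ : L →ₐ[k] K) : extMap φ ≫ ext k L = ext k K := by
  rw [← Spec.map_comp, ← CommRingCat.ofHom_comp, AlgHom.toRingHom_eq_coe, AlgHom.comp_algebraMap]

/-- The map on base changes of `X` induced by a map of extensions. -/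
noncomputable def baseMap {L K : Type u} [Field L] [Field K] [Algebra k L] [Algebra k K]
    (φ : L →ₐ[k] K) : pullback f (ext k K) ⟶ pullback f (ext k L) :=
  pullback.lift (pullback.fst _ _) (pullback.snd _ _ ≫ extMap φ)
    (by rw [Category.assoc, extMap_comp_ext, pullback.condition])

variable {L K M : Type u} [Field L] [Field K] [Field M] [Algebra k L] [Algebra k K] [Algebra k M]

@[reassoc (attr := simp)]
theorem baseMap_fst (φ : L →ₐ[k] K) :
    baseMap f φ ≫ pullback.fst f (ext k L) = pullback.fst f (ext k K) :=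
  pullback.lift_fst _ _ _

@[reassoc (attr := simp)]
theorem baseMap_snd (φ : L →ₐ[k] K) :
    baseMap f φ ≫ pullback.snd f (ext k L) = pullback.snd f (ext k K) ≫ extMap φ :=
  pullback.lift_snd _ _ _

theorem baseMap_comp (ψ : M →ₐ[k] L) (φ : L →ₐ[k] K) :
    baseMap f φ ≫ baseMap f ψ = baseMap f (φ.comp ψ) := by
  apply pullback.hom_ext
  · simp
  · simp only [Category.assoc, baseMap_snd, baseMap_snd_assoc, ← Spec.map_comp]
    rfl

theorem baseMap_isPullback (φ : L →ₐ[k] K) :
    IsPullback (baseMap f φ) (pullback.snd f (ext k K)) (pullback.snd f (ext k L)) (extMap φ) := by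
  have h : IsPullback (pullback.fst f (ext k K)) (pullback.snd f (ext k K)) f (ext k K) :=
    IsPullback.of_hasPullback _ _
  refine IsPullback.of_right (h₁₂ := pullback.fst f (ext k L)) (v₁₃ := f) (h₂₂ := ext k L)
    ?_ (baseMap_snd f φ) (IsPullback.of_hasPullback _ _)
  rw [baseMap_fst, extMap_comp_ext]
  exact h

theorem baseMap_prop (P : MorphismProperty Scheme.{u}) [P.IsStableUnderBaseChange]
    (φ : L →ₐ[k] K) (h : P (extMap φ)) : P (baseMap f φ) :=
  P.of_isPullback (baseMap_isPullback f φ).flip h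

instance universallyOpen_baseMap (φ : L →ₐ[k] K) : UniversallyOpen (baseMap f φ) :=
  baseMap_prop f @UniversallyOpen φ inferInstance

instance surjective_baseMap (φ : L →ₐ[k] K) : Surjective (baseMap f φ) :=
  baseMap_prop f @Surjective φ ⟨fun _ => ⟨IsLocalRing.closedPoint K, Subsingleton.elim _ _⟩⟩

theorem isIntegralHom_extMap [Algebra.IsAlgebraic k K] (φ : L →ₐ[k] K) :
    IsIntegralHom (extMap φ) := by
  rw [IsIntegralHom.SpecMap_iff]
  intro x
  obtain ⟨p, hp, hx⟩ := (Algebra.IsAlgebraic.isIntegral (K := k) (A := K)).isIntegral x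
  refine ⟨p.map (algebraMap k L), hp.map _, ?_⟩
  simpa [Polynomial.eval₂_map, AlgHom.comp_algebraMap] using hx

theorem isIntegralHom_baseMap [Algebra.IsAlgebraic k K] (φ : L →ₐ[k] K) :
    IsIntegralHom (baseMap f φ) :=
  baseMap_prop f @IsIntegralHom φ (isIntegralHom_extMap φ)

section Finite

variable [FiniteDimensional k L]

instance isFinite_fst : IsFinite (pullback.fst f (ext k L)) := by
  have : IsFinite (ext k L) := by
    rw [IsFinite.SpecMap_iff]
    exact RingHom.finite_algebraMap.2 ‹_›
  exact MorphismProperty.of_isPullback (P := @IsFinite) (IsPullback.of_hasPullback f (ext k L)).flip this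

/-- Components at a finite level. -/
theorem component_finite (z : (pullback f (ext k L) : Scheme.{u})) :
    pullback.fst f (ext k L) '' connectedComponent z =
        connectedComponent (pullback.fst f (ext k L) z) ∧
      ∃ U : Set (pullback f (ext k L) : Scheme.{u}), IsOpen U ∧ connectedComponent z =
        U ∩ pullback.fst f (ext k L) ⁻¹' connectedComponent (pullback.fst f (ext k L) z) :=
  component_of_finite_fibre _ (pullback.fst f (ext k L)).continuous
    (pullback.fst f (ext k L)).isOpenMap (pullback.fst f (ext k L)).isClosedMap z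
    ((pullback.fst f (ext k L)).finite_preimage_singleton _)

end Finite

section Algebraic

variable (K) [Algebra.IsAlgebraic k K]

/-- Finite subextensions. -/
abbrev Level := {L : IntermediateField k K // FiniteDimensional k L}

instance (L : Level (k := k) K) : FiniteDimensional k L.1 := L.2

omit [Algebra.IsAlgebraic k K] in
theorem level_directed (L M : Level (k := k) K) : ∃ N : Level (k := k) K, L.1 ≤ N.1 ∧ M.1 ≤ N.1 :=
  ⟨⟨L.1 ⊔ M.1, IntermediateField.finiteDimensional_sup _ _⟩, le_sup_left, le_sup_right⟩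

omit [Algebra.IsAlgebraic k K] in
theorem baseMap_val_comp {L M : IntermediateField k K} (h : L ≤ M) :
    baseMap f M.val ≫ baseMap f (IntermediateField.inclusion h) = baseMap f L.val := by
  rw [baseMap_comp]; rfl

variable {K}

theorem exists_tensor_level {A : Type u} [CommRing A] [Algebra k A] (s : A ⊗[k] K) :
    ∃ (L : Level (k := k) K) (s₀ : A ⊗[k] L.1),
      Algebra.TensorProduct.map (AlgHom.id k A) L.1.val s₀ = s := by
  induction s using TensorProduct.induction_on with
  | zero => exact ⟨⟨⊥, inferInstance⟩, 0, map_zero _⟩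
  | tmul a c =>
    exact ⟨⟨IntermediateField.adjoin k {c}, IntermediateField.adjoin.finiteDimensional
      (Algebra.IsIntegral.isIntegral c)⟩, a ⊗ₜ ⟨c, IntermediateField.mem_adjoin_simple_self k c⟩, rfl⟩
  | add x y hx hy =>
    obtain ⟨L, x₀, rfl⟩ := hx
    obtain ⟨M, y₀, rfl⟩ := hy
    obtain ⟨N, hL, hM⟩ := level_directed K L M
    refine ⟨N, Algebra.TensorProduct.map (AlgHom.id k A) (IntermediateField.inclusion hL) x₀ +
      Algebra.TensorProduct.map (AlgHom.id k A) (IntermediateField.inclusion hM) y₀, ?_⟩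
    rw [map_add, ← AlgHom.comp_apply, ← AlgHom.comp_apply, ← Algebra.TensorProduct.map_comp,
      ← Algebra.TensorProduct.map_comp]
    rfl

theorem exists_basis_affine (A : Type u) [CommRing A] [Algebra k A]
    (O : Set (pullback (Spec.map (CommRingCat.ofHom (algebraMap k A))) (ext k K) : Scheme.{u}))
    (hO : IsOpen O) (t) (ht : t ∈ O) :
    ∃ (L : Level (k := k) K) (O₀ : Set (pullback (Spec.map (CommRingCat.ofHom (algebraMap k A)))
      (ext k L.1) : Scheme.{u})), IsOpen O₀ ∧
      baseMap (Spec.map (CommRingCat.ofHom (algebraMap k A))) L.1.val t ∈ O₀ ∧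
      baseMap (Spec.map (CommRingCat.ofHom (algebraMap k A))) L.1.val ⁻¹' O₀ ⊆ O := by
  let e := pullbackSpecIso k A K
  obtain ⟨-, ⟨s, rfl⟩, hts, hs⟩ := PrimeSpectrum.isTopologicalBasis_basic_opens.exists_subset_of_mem_open
    (show e.hom t ∈ e.hom '' O from ⟨t, ht, rfl⟩) (e.hom.homeomorph.isOpenMap O hO)
  obtain ⟨L, s₀, rfl⟩ := exists_tensor_level s
  let eL := pullbackSpecIso k A L.1
  have hcomm : baseMap (Spec.map (CommRingCat.ofHom (algebraMap k A))) L.1.val ≫ eL.hom = e.hom ≫
      Spec.map (CommRingCat.ofHom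
        (Algebra.TensorProduct.map (AlgHom.id k A) L.1.val).toRingHom) := by
    rw [← cancel_epi e.inv, Iso.inv_hom_id_assoc, ← Category.assoc, ← cancel_mono eL.inv,
      Category.assoc, Iso.hom_inv_id, Category.comp_id]
    apply pullback.hom_ext
    · rw [Category.assoc, baseMap_fst, Category.assoc, pullbackSpecIso_inv_fst,
        pullbackSpecIso_inv_fst, ← Spec.map_comp]
      congr 1
    · rw [Category.assoc, baseMap_snd, Category.assoc, pullbackSpecIso_inv_snd,
        pullbackSpecIso_inv_snd_assoc, ← Spec.map_comp, ← Spec.map_comp]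
      congr 1
  let O₁ : Set (Spec (CommRingCat.of (A ⊗[k] L.1)) : Scheme.{u}) :=
    (PrimeSpectrum.basicOpen s₀ : Set (PrimeSpectrum (A ⊗[k] L.1)))
  have hO₁ : IsOpen O₁ := (PrimeSpectrum.basicOpen s₀).isOpen
  refine ⟨L, eL.hom ⁻¹' O₁, hO₁.preimage eL.hom.continuous, ?_, ?_⟩
  · change (baseMap _ L.1.val ≫ eL.hom) t ∈ PrimeSpectrum.basicOpen s₀
    rw [hcomm]
    exact hts
  · intro x hx
    change (baseMap _ L.1.val ≫ eL.hom) x ∈ PrimeSpectrum.basicOpen s₀ at hx
    rw [hcomm] at hx
    obtain ⟨y, hy, hyx⟩ := hs hx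
    have hyx' : y = x := e.hom.isOpenEmbedding.injective hyx
    exact hyx' ▸ hy

theorem exists_basis_of_chart (R : CommRingCat.{u}) (j : Spec R ⟶ X) [IsOpenImmersion j]
    (O : Set (pullback f (ext k K) : Scheme.{u})) (hO : IsOpen O) (t) (ht : t ∈ O)
    (z : Spec R) (hz : j z = pullback.fst f (ext k K) t) :
    ∃ (L : Level (k := k) K) (O₀ : Set (pullback f (ext k L.1) : Scheme.{u})),
      IsOpen O₀ ∧ baseMap f L.1.val t ∈ O₀ ∧ baseMap f L.1.val ⁻¹' O₀ ⊆ O := by
  obtain ⟨φ, hφ⟩ := Spec.map_surjective (j ≫ f)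
  let := φ.hom.toAlgebra
  let g : Spec (CommRingCat.of R) ⟶ Spec (CommRingCat.of k) :=
    Spec.map (CommRingCat.ofHom (algebraMap k R))
  have hg : j ≫ f = g := hφ.symm
  let jm : ∀ (E : Type u) [Field E] [Algebra k E], pullback g (ext k E) ⟶ pullback f (ext k E) :=
    fun E _ _ => pullback.lift (pullback.fst _ _ ≫ j) (pullback.snd _ _)
      (by rw [Category.assoc, hg]; exact pullback.condition)
  have hjm : ∀ (E : Type u) [Field E] [Algebra k E],
      IsPullback (jm E) (pullback.fst g (ext k E)) (pullback.fst f (ext k E)) j := by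
    intro E _ _
    refine (IsPullback.of_right (h₁₂ := pullback.snd f (ext k E)) (v₁₃ := ext k E) (h₂₂ := f)
      ?_ (pullback.lift_fst _ _ _) (IsPullback.of_hasPullback f (ext k E)).flip)
    rw [pullback.lift_snd, hg]
    exact (IsPullback.of_hasPullback g (ext k E)).flip
  have hjo : ∀ (E : Type u) [Field E] [Algebra k E], IsOpenImmersion (jm E) := fun E _ _ =>
    MorphismProperty.of_isPullback (P := @IsOpenImmersion) (hjm E).flip ‹IsOpenImmersion j›
  have hj₁ : ∀ (E : Type u) [Field E] [Algebra k E],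
      jm E ≫ pullback.fst f (ext k E) = pullback.fst g (ext k E) ≫ j :=
    fun E _ _ => pullback.lift_fst _ _ _
  have hj₂ : ∀ (E : Type u) [Field E] [Algebra k E],
      jm E ≫ pullback.snd f (ext k E) = pullback.snd g (ext k E) :=
    fun E _ _ => pullback.lift_snd _ _ _
  have hnat : ∀ L : IntermediateField k K, baseMap g L.val ≫ jm L = jm K ≫ baseMap f L.val := by
    intro L
    apply pullback.hom_ext
    · rw [Category.assoc, Category.assoc, baseMap_fst, hj₁, hj₁, baseMap_fst_assoc]
    · rw [Category.assoc, Category.assoc, baseMap_snd, hj₂, baseMap_snd, reassoc_of% (hj₂ K)]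
  have hlift : ∀ (w : (pullback f (ext k K) : Scheme.{u})) (y : Spec R),
      j y = pullback.fst f (ext k K) w → ∃ w', jm K w' = w := by
    intro w y hy
    obtain ⟨w', hw', -⟩ := Scheme.Pullback.exists_preimage_pullback w y hy.symm
    refine ⟨(hjm K).isoPullback.inv w', ?_⟩
    change ((hjm K).isoPullback.inv ≫ jm K) w' = w
    rwa [IsPullback.isoPullback_inv_fst]
  obtain ⟨t', rfl⟩ := hlift t z hz
  obtain ⟨L, O₀, hO₀, htO₀, hsub⟩ :=
    exists_basis_affine R (jm K ⁻¹' O) (hO.preimage (jm K).continuous) t' ht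
  have := hjo L.1
  refine ⟨L, jm L.1 '' O₀, (jm L.1).isOpenEmbedding.isOpenMap _ hO₀, ⟨_, htO₀, ?_⟩, fun w hw => ?_⟩
  · exact congrArg (fun m : pullback g (ext k K) ⟶ pullback f (ext k L.1) => m t') (hnat L.1)
  · obtain ⟨y, hy, hyw⟩ := hw
    have hy' : j (pullback.fst g (ext k L.1) y) = pullback.fst f (ext k K) w := by
      rw [← baseMap_fst f L.1.val, Scheme.Hom.comp_apply, ← hyw, ← Scheme.Hom.comp_apply,
        ← Scheme.Hom.comp_apply, (hjm L.1).w]
    obtain ⟨w', rfl⟩ := hlift w _ hy'
    have hyy : baseMap g L.1.val w' = y := (jm L.1).isOpenEmbedding.injective (by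
      rw [hyw, ← Scheme.Hom.comp_apply, hnat, Scheme.Hom.comp_apply])
    exact hsub (show baseMap g L.1.val w' ∈ O₀ from hyy ▸ hy)

/-- Opens of `X_K` come from finite levels. -/
theorem exists_basis (O : Set (pullback f (ext k K) : Scheme.{u})) (hO : IsOpen O) (t)
    (ht : t ∈ O) : ∃ (L : Level (k := k) K) (O₀ : Set (pullback f (ext k L.1) : Scheme.{u})),
      IsOpen O₀ ∧ baseMap f L.1.val t ∈ O₀ ∧ baseMap f L.1.val ⁻¹' O₀ ⊆ O := by
  let i := X.affineOpenCover.idx (pullback.fst f (ext k K) t)
  obtain ⟨z, hz⟩ := X.affineOpenCover.covers (pullback.fst f (ext k K) t)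
  exact exists_basis_of_chart f (X.affineOpenCover.X i) (X.affineOpenCover.f i) O hO t ht z hz

/-- The component of `x` at level `L`. -/
noncomputable abbrev comp (x : (pullback f (ext k K) : Scheme.{u})) (L : Level (k := k) K) :
    Set (pullback f (ext k L.1) : Scheme.{u}) :=
  connectedComponent (baseMap f L.1.val x)

/-- Points whose image at every finite level is in the component of `x`. -/
noncomputable abbrev limComp (x : (pullback f (ext k K) : Scheme.{u})) :
    Set (pullback f (ext k K) : Scheme.{u}) :=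
  ⋂ L : Level (k := k) K, baseMap f L.1.val ⁻¹' comp f x L

omit [Algebra.IsAlgebraic k K] in
theorem fst_baseMap (φ : L →ₐ[k] K) (w : (pullback f (ext k K) : Scheme.{u})) :
    pullback.fst f (ext k L) (baseMap f φ w) = pullback.fst f (ext k K) w := by
  rw [← Scheme.Hom.comp_apply, baseMap_fst]

omit [Algebra.IsAlgebraic k K] in
theorem baseMap_level {L M : IntermediateField k K} (h : L ≤ M)
    (w : (pullback f (ext k K) : Scheme.{u})) :
    baseMap f (IntermediateField.inclusion h) (baseMap f M.val w) = baseMap f L.val w := by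
  rw [← Scheme.Hom.comp_apply, baseMap_val_comp]

omit [Algebra.IsAlgebraic k K] in
theorem comp_spec (x : (pullback f (ext k K) : Scheme.{u})) (L : Level (k := k) K) :
    pullback.fst f (ext k L.1) '' comp f x L = connectedComponent (pullback.fst f (ext k K) x) ∧
      ∃ U : Set (pullback f (ext k L.1) : Scheme.{u}), IsOpen U ∧ comp f x L =
        U ∩ pullback.fst f (ext k L.1) ⁻¹' connectedComponent (pullback.fst f (ext k K) x) := by
  obtain ⟨h1, h2⟩ := component_finite f (baseMap f L.1.val x)
  rw [fst_baseMap] at h1 h2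
  exact ⟨h1, h2⟩

omit [Algebra.IsAlgebraic k K] in
theorem comp_trans (x : (pullback f (ext k K) : Scheme.{u})) {L M : Level (k := k) K}
    (h : L.1 ≤ M.1) : baseMap f (IntermediateField.inclusion h) '' comp f x M = comp f x L := by
  have : Algebra.IsAlgebraic k M.1 := Algebra.IsAlgebraic.of_finite k M.1
  let r := baseMap f (IntermediateField.inclusion h)
  have : IsIntegralHom r := isIntegralHom_baseMap f _
  have hsub : r '' comp f x M ⊆ comp f x L := by
    have := r.continuous.image_connectedComponent_subset (baseMap f M.1.val x)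
    rwa [baseMap_level f h x] at this
  refine subset_antisymm hsub fun y hy => ?_
  obtain ⟨U, hU, hU'⟩ := (comp_spec f x M).2
  by_contra hy'
  obtain ⟨y₁, hy₁, ⟨v, hv, hvy⟩, hn⟩ := isPreconnected_connectedComponent
    (r '' U) (r '' comp f x M)ᶜ (r.isOpenMap U hU)
    (r.isClosedMap _ isClosed_connectedComponent).isOpen_compl
    (fun w _ => by
      by_cases hwM : w ∈ r '' comp f x M
      · obtain ⟨v, hv, rfl⟩ := hwM
        rw [hU'] at hv
        exact Or.inl ⟨v, hv.1, rfl⟩
      · exact Or.inr hwM)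
    ⟨baseMap f L.1.val x, mem_connectedComponent, baseMap f M.1.val x,
      ((Set.ext_iff.1 hU' _).1 mem_connectedComponent).1, baseMap_level f h x⟩
    ⟨y, hy, hy'⟩
  refine hn ⟨v, ?_, hvy⟩
  rw [hU']
  refine ⟨hv, ?_⟩
  have := (comp_spec f x L).1 ▸ Set.mem_image_of_mem (pullback.fst f (ext k L.1)) hy₁
  rw [← hvy, ← Scheme.Hom.comp_apply, baseMap_fst] at this
  exact this

theorem limComp_image (x : (pullback f (ext k K) : Scheme.{u})) (L : Level (k := k) K) :
    baseMap f L.1.val '' limComp f x = comp f x L := by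
  refine subset_antisymm (Set.image_subset_iff.2 fun w hw => Set.mem_iInter.1 hw L) fun y hy => ?_
  have : IsIntegralHom (baseMap f L.1.val) := isIntegralHom_baseMap f _
  let F := baseMap f L.1.val ⁻¹' {y}
  have : CompactSpace F :=
    isCompact_iff_compactSpace.1 ((baseMap f L.1.val).isCompact_preimage_singleton y)
  have : Nonempty {M : Level (k := k) K // L.1 ≤ M.1} := ⟨⟨L, le_rfl⟩⟩
  let t : {M : Level (k := k) K // L.1 ≤ M.1} → Set F := fun M =>
    {w | baseMap f M.1.1.val w.1 ∈ comp f x M.1}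
  have hclosed : ∀ M, IsClosed (t M) := fun M =>
    isClosed_connectedComponent.preimage
      ((baseMap f M.1.1.val).continuous.comp continuous_subtype_val)
  have hne : ∀ M, (t M).Nonempty := by
    rintro ⟨M, hM⟩
    rw [← comp_trans f x hM] at hy
    obtain ⟨v, hv, hvy⟩ := hy
    obtain ⟨w, hw⟩ := (baseMap f M.1.val).surjective v
    refine ⟨⟨w, show baseMap f L.1.val w ∈ ({y} : Set _) from ?_⟩,
      show baseMap f M.1.val w ∈ comp f x M from hw ▸ hv⟩
    rw [← baseMap_level f hM w, hw, hvy]
    exact Set.mem_singleton _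
  have hdir : Directed (· ⊇ ·) t := by
    rintro ⟨M₁, h₁⟩ ⟨M₂, h₂⟩
    obtain ⟨N, hN₁, hN₂⟩ := level_directed K M₁ M₂
    refine ⟨⟨N, h₁.trans hN₁⟩, fun w hw => ?_, fun w hw => ?_⟩
    · change baseMap f M₁.1.val w.1 ∈ comp f x M₁
      rw [← comp_trans f x hN₁]
      exact ⟨_, hw, baseMap_level f hN₁ w.1⟩
    · change baseMap f M₂.1.val w.1 ∈ comp f x M₂
      rw [← comp_trans f x hN₂]
      exact ⟨_, hw, baseMap_level f hN₂ w.1⟩
  obtain ⟨w, hw⟩ := IsCompact.nonempty_iInter_of_directed_nonempty_isCompact_isClosed t hdir hne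
    (fun M => (hclosed M).isCompact) hclosed
  rw [Set.mem_iInter] at hw
  refine ⟨w.1, Set.mem_iInter.2 fun M => ?_, w.2⟩
  obtain ⟨N, hL, hM⟩ := level_directed K L M
  rw [Set.mem_preimage, ← comp_trans f x hM]
  exact ⟨_, hw ⟨N, hL⟩, baseMap_level f hM w.1⟩

theorem limComp_preconnected (x : (pullback f (ext k K) : Scheme.{u})) :
    _root_.IsPreconnected (limComp f x) := by
  have hclosed : IsClosed (limComp f x) :=
    isClosed_iInter fun L : Level (k := k) K =>
      isClosed_connectedComponent.preimage (baseMap f L.1.val).continuous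
  rw [isPreconnected_closed_iff]
  intro U V hU hV hsub ⟨a, haT, haU⟩ ⟨b, hbT, hbV⟩
  by_contra hdisj
  have haV : a ∉ V := fun h => hdisj ⟨a, haT, haU, h⟩
  obtain ⟨L, O₀, hO₀, haO₀, hO₀sub⟩ := exists_basis f Vᶜ hV.isOpen_compl a haV
  have : IsIntegralHom (baseMap f L.1.val) := isIntegralHom_baseMap f _
  let B := baseMap f L.1.val '' (limComp f x ∩ V)
  have hBc : IsClosed B := (baseMap f L.1.val).isClosedMap _ (hclosed.inter hV)
  have hBo : ∀ y ∈ B, ∃ W, IsOpen W ∧ y ∈ W ∧ W ∩ comp f x L ⊆ B := by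
    rintro _ ⟨v, ⟨hvT, hvV⟩, rfl⟩
    have hvU : v ∉ U := fun h => hdisj ⟨v, hvT, h, hvV⟩
    obtain ⟨M, O₁, hO₁, hvO₁, hO₁sub⟩ := exists_basis f Uᶜ hU.isOpen_compl v hvU
    obtain ⟨N, hL, hM⟩ := level_directed K L M
    obtain ⟨UN, hUN, hUN'⟩ := (comp_spec f x N).2
    refine ⟨baseMap f (IntermediateField.inclusion hL) ''
      (UN ∩ baseMap f (IntermediateField.inclusion hM) ⁻¹' O₁), ?_, ?_, ?_⟩
    · exact (baseMap f _).isOpenMap _
        (hUN.inter (hO₁.preimage (baseMap f (IntermediateField.inclusion hM)).continuous))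
    · have hvN : baseMap f N.1.val v ∈ comp f x N := Set.mem_iInter.1 hvT N
      rw [hUN'] at hvN
      refine ⟨baseMap f N.1.val v, ⟨hvN.1, ?_⟩, baseMap_level f hL v⟩
      rw [Set.mem_preimage, baseMap_level f hM v]
      exact hvO₁
    · rintro _ ⟨⟨w, ⟨hwU, hwO⟩, rfl⟩, hwC⟩
      have hwN : w ∈ comp f x N := by
        rw [hUN']
        refine ⟨hwU, ?_⟩
        have := (comp_spec f x L).1 ▸ Set.mem_image_of_mem (pullback.fst f (ext k L.1)) hwC
        rwa [← Scheme.Hom.comp_apply, baseMap_fst] at this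
      rw [← limComp_image f x N] at hwN
      obtain ⟨w', hw'T, rfl⟩ := hwN
      refine ⟨w', ⟨hw'T, (hsub hw'T).resolve_left (hO₁sub ?_)⟩, (baseMap_level f hL w').symm⟩
      rw [Set.mem_preimage, ← baseMap_level f hM w']
      exact hwO
  choose W hW hyW hWB using hBo
  by_cases haB : baseMap f L.1.val a ∈ B
  · obtain ⟨v, ⟨-, hvV⟩, hva⟩ := haB
    exact hO₀sub (show baseMap f L.1.val v ∈ O₀ from hva ▸ haO₀) hvV
  · obtain ⟨y₁, hy₁, h₁, h₂⟩ := isPreconnected_connectedComponent
      (⋃ (y) (h : y ∈ B), W y h) Bᶜ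
      (isOpen_iUnion fun y => isOpen_iUnion fun h => hW y h) hBc.isOpen_compl
      (fun y _ => by
        by_cases h : y ∈ B
        · exact Or.inl (Set.mem_iUnion₂.2 ⟨y, h, hyW y h⟩)
        · exact Or.inr h)
      ⟨baseMap f L.1.val b, Set.mem_iInter.1 hbT L,
        Set.mem_iUnion₂.2 ⟨baseMap f L.1.val b, ⟨b, ⟨hbT, hbV⟩, rfl⟩, hyW _ _⟩⟩
      ⟨baseMap f L.1.val a, Set.mem_iInter.1 haT L, haB⟩
    obtain ⟨y', hy', h₁⟩ := Set.mem_iUnion₂.1 h₁
    exact h₂ (hWB y' hy' ⟨h₁, hy₁⟩)

/-- Surjectivity of components for algebraic extensions. -/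
theorem image_component_algebraic (x : (pullback f (ext k K) : Scheme.{u})) :
    pullback.fst f (ext k K) '' connectedComponent x =
      connectedComponent (pullback.fst f (ext k K) x) := by
  refine subset_antisymm
    ((pullback.fst f (ext k K)).continuous.image_connectedComponent_subset x) fun c hc => ?_
  let L₀ : Level (k := k) K := ⟨⊥, inferInstance⟩
  rw [← (comp_spec f x L₀).1, ← limComp_image f x L₀] at hc
  obtain ⟨_, ⟨w, hw, rfl⟩, rfl⟩ := hc
  exact ⟨w, (limComp_preconnected f x).subset_connectedComponent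
    (Set.mem_iInter.2 fun L => mem_connectedComponent) hw, (fst_baseMap f L₀.1.val w).symm⟩

end Algebraic

section Final

variable (K)

theorem geometricallyConnected_extMap [IsAlgClosed L] (φ : L →ₐ[k] K) :
    GeometricallyConnected (extMap φ) := by
  refine ⟨geometrically_iff_of_isClosedUnderIsomorphisms.mpr fun E _ x => ?_⟩
  obtain ⟨ψ, rfl⟩ := Spec.map_surjective x
  let := φ.toRingHom.toAlgebra
  let := ψ.hom.toAlgebra
  have := isDomain_tensor_of_isAlgClosed L K E
  have : IrreducibleSpace ↥(Spec (CommRingCat.of (K ⊗[L] E))) :=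
    (inferInstance : IrreducibleSpace (PrimeSpectrum (K ⊗[L] E)))
  exact (pullbackSpecIso L K E).hom.homeomorph.connectedSpace_iff.mpr inferInstance

theorem image_component (x : (pullback f (ext k K) : Scheme.{u})) :
    pullback.fst f (ext k K) '' connectedComponent x =
      connectedComponent (pullback.fst f (ext k K) x) := by
  refine subset_antisymm
    ((pullback.fst f (ext k K)).continuous.image_connectedComponent_subset x) fun c hc => ?_
  let Ω := AlgebraicClosure K
  let κ := AlgebraicClosure k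
  let ι : K →ₐ[k] Ω := IsScalarTower.toAlgHom k K Ω
  let φ : κ →ₐ[k] Ω := IsAlgClosed.lift
  have := geometricallyConnected_extMap Ω φ
  have : GeometricallyConnected (baseMap f φ) := baseMap_prop f @GeometricallyConnected φ this
  obtain ⟨x₂, rfl⟩ := (baseMap f ι).surjective x
  have hpi : pullback.fst f (ext k K) (baseMap f ι x₂) = pullback.fst f (ext k Ω) x₂ := by
    rw [← Scheme.Hom.comp_apply, baseMap_fst]
  have hpφ : ∀ w, pullback.fst f (ext k κ) (baseMap f φ w) = pullback.fst f (ext k Ω) w := fun w => by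
    rw [← Scheme.Hom.comp_apply, baseMap_fst]
  rw [hpi, ← hpφ, ← image_component_algebraic] at hc
  obtain ⟨y, hy, rfl⟩ := hc
  have hpre := (baseMap f φ).isConnected_preimage (baseMap f φ).isOpenMap
    (isConnected_connectedComponent (x := baseMap f φ x₂)) isClosed_connectedComponent
  obtain ⟨y', rfl⟩ := (baseMap f φ).surjective y
  refine ⟨baseMap f ι y', (baseMap f ι).continuous.image_connectedComponent_subset x₂
    ⟨y', hpre.2.subset_connectedComponent mem_connectedComponent hy, rfl⟩, ?_⟩
  rw [← Scheme.Hom.comp_apply, baseMap_fst, hpφ]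

end Final

end Groth.Agent.FieldExtConn
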