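import Mathlib
import Groth.Agent.FieldExtConn.Basic

/-! Criteria of geometric connectedness. -/

set_option autoImplicit false

open CategoryTheory CategoryTheory.Limits AlgebraicGeometry
open scoped TensorProduct

universe u

namespace Groth.Agent.FieldExtConn

variable {k : Type u} [Field k] {X : Scheme.{u}} (f : X ⟶ Spec (CommRingCat.of k))

theorem geometricallyConnected_extMap_purelyInseparable (L K : Type u) [Field L] [Field K]
    [Algebra k L] [Algebra k K] [Algebra L K] [IsScalarTower k L K] [IsPurelyInseparable L K] :
    GeometricallyConnected (extMap (IsScalarTower.toAlgHom k L K)) := by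
  refine ⟨geometrically_iff_of_isClosedUnderIsomorphisms.mpr fun E _ y => ?_⟩
  obtain ⟨ψ, rfl⟩ := Spec.map_surjective y
  let := ψ.hom.toAlgebra
  have h1 := PrimeSpectrum.isHomeomorph_comap_of_isPurelyInseparable L K E
  have h2 := PrimeSpectrum.isHomeomorph_comap_of_bijective
    (f := (Algebra.TensorProduct.comm L K E).toRingEquiv.toRingHom)
    (Algebra.TensorProduct.comm L K E).bijective
  have : ConnectedSpace (PrimeSpectrum E) := inferInstance
  have : ConnectedSpace (PrimeSpectrum (E ⊗[L] K)) := h1.homeomorph.connectedSpace_iff.mpr this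
  have : ConnectedSpace (PrimeSpectrum (K ⊗[L] E)) := h2.homeomorph.connectedSpace_iff.mp this
  exact (pullbackSpecIso L K E).hom.homeomorph.connectedSpace_iff.mpr this

/-- Connectedness over a separable closure suffices. -/
theorem geometricallyConnected_of_sepClosure
    [h : ConnectedSpace (pullback f (ext k (separableClosure k (AlgebraicClosure k))) : Scheme.{u})] :
    GeometricallyConnected f := by
  refine ⟨geometrically_iff_of_isClosedUnderIsomorphisms.mpr fun E _ y => ?_⟩
  obtain ⟨ψ, rfl⟩ := Spec.map_surjective y
  let := ψ.hom.toAlgebra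
  show ConnectedSpace (pullback f (ext k E) : Scheme.{u})
  let κ := AlgebraicClosure k
  let S := separableClosure k κ
  have : IsPurelyInseparable S κ := separableClosure.isPurelyInseparable k κ
  let i : S →ₐ[k] κ := IsScalarTower.toAlgHom k S κ
  have hi := geometricallyConnected_extMap_purelyInseparable (k := k) S κ
  have : GeometricallyConnected (baseMap f i) := baseMap_prop f @GeometricallyConnected i hi
  have hκ : ConnectedSpace (pullback f (ext k κ) : Scheme.{u}) :=
    GeometricallyConnected.connectedSpace (baseMap f i) (baseMap f i).isOpenMap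
  let Ω := AlgebraicClosure E
  let φ : κ →ₐ[k] Ω := IsAlgClosed.lift
  have := geometricallyConnected_extMap Ω φ
  have : GeometricallyConnected (baseMap f φ) := baseMap_prop f @GeometricallyConnected φ this
  have hΩ : ConnectedSpace (pullback f (ext k Ω) : Scheme.{u}) :=
    GeometricallyConnected.connectedSpace (baseMap f φ) (baseMap f φ).isOpenMap
  let ι : E →ₐ[k] Ω := IsScalarTower.toAlgHom k E Ω
  exact (baseMap f ι).surjective.connectedSpace (baseMap f ι).continuous

/-- Connectedness at all finite levels gives connectedness of the limit. -/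
theorem connectedSpace_of_levels (K : Type u) [Field K] [Algebra k K] [Algebra.IsAlgebraic k K]
    (h : ∀ L : Level (k := k) K, ConnectedSpace (pullback f (ext k L.1) : Scheme.{u})) :
    ConnectedSpace (pullback f (ext k K) : Scheme.{u}) := by
  let L₀ : Level (k := k) K := ⟨⊥, inferInstance⟩
  have := h L₀
  obtain ⟨v⟩ := this.toNonempty
  obtain ⟨x, -⟩ := (baseMap f L₀.1.val).surjective v
  have huniv : limComp f x = Set.univ := Set.eq_univ_of_forall fun w => Set.mem_iInter.2 fun L => by
    have := h L
    rw [Set.mem_preimage, show comp f x L = connectedComponent _ from rfl,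
      PreconnectedSpace.connectedComponent_eq_univ]
    trivial
  have hp := limComp_preconnected f x
  rw [huniv] at hp
  exact connectedSpace_iff_univ.mpr ⟨⟨x, trivial⟩, hp⟩

/-- A separable element keeps its degree over a field with no separable algebraic elements. -/
theorem natDegree_minpoly_eq {K Ω : Type u} [Field K] [Algebra k K] [Field Ω] [IsAlgClosed Ω]
    [Algebra k Ω] [Algebra K Ω] [IsScalarTower k K Ω] (hK : separableClosure k K = ⊥) (b : Ω)
    (hb : IsSeparable k b) : (minpoly K b).natDegree = (minpoly k b).natDegree := by
  have hint : IsIntegral k b := hb.isIntegral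
  have hintK : IsIntegral K b := hint.tower_top
  let S := separableClosure k Ω
  set q := minpoly K b
  have hqΩ : q.map (algebraMap K Ω) ∣ (minpoly k b).map (algebraMap k Ω) := by
    rw [IsScalarTower.algebraMap_eq k K Ω, ← Polynomial.map_map]
    exact Polynomial.map_dvd _ (minpoly.dvd_map_of_isScalarTower k K b)
  have hsplit : (q.map (algebraMap K Ω)).Splits := IsAlgClosed.splits _
  have hroots : ∀ r ∈ (q.map (algebraMap K Ω)).roots, r ∈ S := fun r hr => by
    rw [mem_separableClosure_iff]
    have hr' := Multiset.mem_of_le (Polynomial.roots.le_of_dvd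
      ((minpoly.monic hint).map _).ne_zero hqΩ) hr
    rw [Polynomial.mem_roots ((minpoly.monic hint).map _).ne_zero, Polynomial.IsRoot,
      Polynomial.eval_map] at hr'
    exact Polynomial.Separable.of_dvd hb (minpoly.dvd k r hr')
  have hlift : q.map (algebraMap K Ω) ∈ Polynomial.lifts (algebraMap S Ω) := by
    rw [hsplit.eq_prod_roots_of_monic ((minpoly.monic hintK).map _)]
    refine Subsemiring.multiset_prod_mem _ _ fun c hc => ?_
    obtain ⟨r, hr, rfl⟩ := Multiset.mem_map.1 hc
    exact ⟨Polynomial.X - Polynomial.C ⟨r, hroots r hr⟩, by simp⟩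
  have hk : q ∈ Polynomial.lifts (algebraMap k K) := by
    rw [Polynomial.lifts_iff_coeff_lifts]
    intro j
    obtain ⟨c, hc⟩ := (Polynomial.lifts_iff_coeff_lifts _).1 hlift j
    rw [Polynomial.coeff_map] at hc
    have hmem : q.coeff j ∈ separableClosure k K := by
      rw [mem_separableClosure_iff, IsSeparable,
        ← minpoly.algebraMap_eq (algebraMap K Ω).injective]
      rw [← hc]
      exact mem_separableClosure_iff.1 c.2
    rw [hK, IntermediateField.mem_bot] at hmem
    exact hmem
  obtain ⟨q₀, hq₀, hdeg, hmon⟩ := Polynomial.lifts_and_natDegree_eq_and_monic hk (minpoly.monic hintK)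
  refine le_antisymm ?_ ?_
  · exact le_trans (Polynomial.natDegree_le_of_dvd (minpoly.dvd_map_of_isScalarTower k K b)
      ((minpoly.monic hint).map _).ne_zero) (le_of_eq ((minpoly.monic hint).natDegree_map _))
  · rw [← hdeg]
    refine Polynomial.natDegree_le_of_dvd (minpoly.dvd k b ?_) hmon.ne_zero
    rw [← Polynomial.aeval_map_algebraMap K, hq₀]
    exact minpoly.aeval K b

theorem isDomain_tensor_sepClosure (K : Type u) [Field K] [Algebra k K]
    (hK : separableClosure k K = ⊥) :
    IsDomain (K ⊗[k] separableClosure k (AlgebraicClosure k)) := by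
  let S := separableClosure k (AlgebraicClosure k)
  let Ω := AlgebraicClosure K
  let j : S →ₐ[k] Ω := IsAlgClosed.lift
  let Φ : K ⊗[k] S →ₐ[K] Ω := Algebra.TensorProduct.lift (Algebra.ofId K Ω) j fun _ _ => Commute.all _ _
  suffices hinj : Function.Injective Φ from hinj.isDomain Φ.toRingHom
  rw [injective_iff_map_eq_zero]
  intro z hz
  obtain ⟨L, z₀, rfl⟩ := exists_tensor_level z
  have : Algebra.IsSeparable k L.1 := Algebra.isSeparable_tower_bot_of_isSeparable k L.1 S
  obtain ⟨a, ha⟩ := Field.exists_primitive_element k L.1
  let ΦL : K ⊗[k] L.1 →ₐ[K] Ω :=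
    Algebra.TensorProduct.lift (Algebra.ofId K Ω) (j.comp L.1.val) fun _ _ => Commute.all _ _
  have hcomp : ∀ w, Φ (Algebra.TensorProduct.map (AlgHom.id k K) L.1.val w) = ΦL w := fun w => by
    induction w using TensorProduct.induction_on with
    | zero => simp
    | tmul p q => simp [Φ, ΦL]
    | add p q hp hq => simp only [map_add, hp, hq]
  rw [hcomp] at hz
  set b := j (L.1.val a)
  have hd : Module.finrank K (K ⊗[k] L.1) = (minpoly K b).natDegree := by
    rw [natDegree_minpoly_eq hK b (by
        have := Algebra.IsSeparable.isSeparable k a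
        rwa [IsSeparable, minpoly.algHom_eq j j.injective, minpoly.algHom_eq L.1.val L.1.val.injective]),
      minpoly.algHom_eq j j.injective, minpoly.algHom_eq L.1.val L.1.val.injective,
      Module.finrank_baseChange, ← IntermediateField.adjoin.finrank (Algebra.IsIntegral.isIntegral a),
      ha, IntermediateField.finrank_top']
  have hle : (minpoly K b).natDegree ≤ Module.finrank K (LinearMap.range ΦL.toLinearMap) := by
    have hint : IsIntegral K b := Algebra.IsIntegral.isIntegral b
    rw [← IntermediateField.adjoin.finrank hint]
    have hmem : Algebra.adjoin K {b} ≤ ΦL.range := Algebra.adjoin_le (Set.singleton_subset_iff.2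
      ⟨1 ⊗ₜ a, by simp [ΦL, b]⟩)
    refine le_trans (le_of_eq ?_) (Submodule.finrank_mono
      (s := Subalgebra.toSubmodule (Algebra.adjoin K {b})) (t := LinearMap.range ΦL.toLinearMap) hmem)
    rw [← IntermediateField.adjoin_simple_toSubalgebra_of_isAlgebraic hint.isAlgebraic]
    rfl
  have hker := LinearMap.finrank_range_add_finrank_ker ΦL.toLinearMap
  have h0 : LinearMap.ker ΦL.toLinearMap = ⊥ := Submodule.finrank_eq_zero.1 (by omega)
  rw [show z₀ = 0 from LinearMap.ker_eq_bot.1 h0 (hz.trans (map_zero ΦL.toLinearMap).symm), map_zero]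

theorem geometricallyConnected_ext_of_primary (K : Type u) [Field K] [Algebra k K]
    (hK : separableClosure k K = ⊥) : GeometricallyConnected (ext k K) := by
  have := isDomain_tensor_sepClosure K hK
  have : IrreducibleSpace ↥(Spec (CommRingCat.of (K ⊗[k] separableClosure k (AlgebraicClosure k)))) :=
    (inferInstance : IrreducibleSpace (PrimeSpectrum _))
  exact geometricallyConnected_of_sepClosure (h :=
    (pullbackSpecIso k K (separableClosure k (AlgebraicClosure k))).hom.homeomorph.connectedSpace_iff.mpr
      inferInstance) (f := ext k K)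

/-- The preimage of a component containing the image of a geometrically connected scheme. -/
theorem isConnected_preimage_component {Y : Scheme.{u}} {g : Y ⟶ Spec (CommRingCat.of k)} (h : Y ⟶ X)
    (w : h ≫ f = g) [GeometricallyConnected g] (y : Y) (K : Type u) [Field K] [Algebra k K] :
    _root_.IsConnected (pullback.fst f (ext k K) ⁻¹' connectedComponent (h y)) := by
  let m := pullback.map g (ext k K) f (ext k K) h (𝟙 _) (𝟙 _) (by simp [w]) (by simp)
  have hY : ConnectedSpace (pullback g (ext k K) : Scheme.{u}) :=
    GeometricallyConnected.geometrically_connectedSpace (f := g) _ _ _ (IsPullback.of_hasPullback _ _)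
  have hR : Set.range m = pullback.fst f (ext k K) ⁻¹' Set.range h := by
    refine (Scheme.Pullback.range_map ..).trans ?_
    simp
  have : Surjective (ext k K) :=
    ⟨fun p => ⟨IsLocalRing.closedPoint K, Subsingleton.elim (α := Spec (CommRingCat.of k)) _ _⟩⟩
  obtain ⟨z, hz⟩ := (pullback.fst f (ext k K)).surjective (h y)
  have hzR : z ∈ Set.range m := by
    rw [hR]
    exact ⟨y, hz.symm⟩
  suffices heq : pullback.fst f (ext k K) ⁻¹' connectedComponent (h y) = connectedComponent z from
    heq ▸ isConnected_connectedComponent
  refine subset_antisymm (fun p hp => ?_) fun p hp => ?_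
  · have hC : h y ∈ connectedComponent (pullback.fst f (ext k K) p) := by
      rw [← connectedComponent_eq hp]
      exact mem_connectedComponent
    rw [← image_component] at hC
    obtain ⟨q, hq, hqy⟩ := hC
    have hqR : q ∈ Set.range m := by rw [hR]; exact ⟨y, hqy.symm⟩
    have := (isConnected_range m.continuous).2.subset_connectedComponent hzR hqR
    rw [connectedComponent_eq this, ← connectedComponent_eq hq]
    exact mem_connectedComponent
  · have := (pullback.fst f (ext k K)).continuous.image_connectedComponent_subset z ⟨p, hp, rfl⟩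
    rwa [hz] at this

theorem geometricallyConnected_of_hom {Y : Scheme.{u}} {g : Y ⟶ Spec (CommRingCat.of k)} (h : Y ⟶ X)
    (w : h ≫ f = g) [GeometricallyConnected g] [Nonempty Y] [ConnectedSpace X] :
    GeometricallyConnected f := by
  refine ⟨geometrically_iff_of_isClosedUnderIsomorphisms.mpr fun E _ y => ?_⟩
  obtain ⟨ψ, rfl⟩ := Spec.map_surjective y
  let := ψ.hom.toAlgebra
  show ConnectedSpace (pullback f (ext k E) : Scheme.{u})
  have := isConnected_preimage_component f h w (Classical.arbitrary Y) E
  rw [PreconnectedSpace.connectedComponent_eq_univ, Set.preimage_univ] at this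
  exact connectedSpace_iff_univ.mpr this

end Groth.Agent.FieldExtConn
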