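import Mathlib.Topology.Connected.Clopen
import Mathlib.Topology.Connected.Basic
import Mathlib.Topology.Constructions
import Mathlib.Data.Set.Card
import Mathlib.Topology.LocalAtTarget

/-! Connected components along open and closed maps with a finite fibre. -/

namespace Groth.Agent.FieldExtConn

theorem clopen_component_of_finite_fibre {P C : Type*} [TopologicalSpace P] [TopologicalSpace C]
    [PreconnectedSpace C] (f : P → C) (ho : IsOpenMap f)
    (hc : IsClosedMap f) (z : P) (hfin : (f ⁻¹' {f z}).Finite) :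
    IsClopen (connectedComponent z) ∧ f '' connectedComponent z = Set.univ := by
  have himage : ∀ Q : Set P, IsClopen Q → Q.Nonempty → f '' Q = Set.univ := fun Q hQ hne =>
    IsClopen.eq_univ ⟨hc _ hQ.1, ho _ hQ.2⟩ (hne.image f)
  let cnt : Set P → ℕ := fun Q => (f ⁻¹' {f z} ∩ Q).ncard
  obtain ⟨Q, ⟨hQ, hzQ⟩, hmin⟩ := (InvImage.wf cnt Nat.lt_wfRel.wf).has_min
    {Q : Set P | IsClopen Q ∧ z ∈ Q} ⟨Set.univ, isClopen_univ, trivial⟩
  have hpre : IsPreconnected Q := by
    rw [isPreconnected_iff_subset_of_disjoint_closed]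
    intro u v hu hv hsub hdisj
    have hdj : Q ∩ (u ∩ v) = ∅ := hdisj
    have hu' : Q ∩ u = Q \ v := by
      ext x; constructor
      · exact fun h => ⟨h.1, fun hxv => (hdj ▸ Set.notMem_empty x) ⟨h.1, h.2, hxv⟩⟩
      · exact fun h => ⟨h.1, (hsub h.1).resolve_right h.2⟩
    have hv' : Q ∩ v = Q \ u := by
      ext x; constructor
      · exact fun h => ⟨h.1, fun hxu => (hdj ▸ Set.notMem_empty x) ⟨h.1, hxu, h.2⟩⟩
      · exact fun h => ⟨h.1, (hsub h.1).resolve_left h.2⟩
    have hQu : IsClopen (Q ∩ u) := ⟨hQ.1.inter hu, by rw [hu']; exact hQ.2.sdiff hv⟩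
    have hQv : IsClopen (Q ∩ v) := ⟨hQ.1.inter hv, by rw [hv']; exact hQ.2.sdiff hu⟩
    have key : ∀ a b : Set P, IsClopen (Q ∩ a) → IsClopen (Q ∩ b) → z ∈ a → (Q ∩ b).Nonempty →
        Q ∩ (a ∩ b) = ∅ → False := by
      intro a b ha hb hza hne hd
      refine hmin (Q ∩ a) ⟨ha, hzQ, hza⟩ ?_
      refine Set.ncard_lt_ncard ⟨Set.inter_subset_inter_right _ Set.inter_subset_left, fun hsup => ?_⟩
        (hfin.inter_of_left _)
      obtain ⟨w, hwQb, hw⟩ : f z ∈ f '' (Q ∩ b) := by rw [himage _ hb hne]; trivial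
      exact (hd ▸ Set.notMem_empty w) ⟨hwQb.1, (hsup ⟨hw, hwQb.1⟩).2.2, hwQb.2⟩
    rcases hsub hzQ with hz | hz
    · left
      intro x hx
      refine (hsub hx).resolve_right fun hxv => key u v hQu hQv hz ⟨x, hx, hxv⟩ hdj
    · right
      intro x hx
      exact (hsub hx).resolve_left fun hxu =>
        key v u hQv hQu hz ⟨x, hx, hxu⟩ (by rw [Set.inter_comm v u]; exact hdj)
  have hcomp : connectedComponent z = Q :=
    subset_antisymm (hQ.connectedComponent_subset hzQ) (hpre.subset_connectedComponent hzQ)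
  rw [hcomp]
  exact ⟨hQ, himage Q hQ ⟨z, hzQ⟩⟩

/-- Relative version over a connected component of the target. -/
theorem component_of_finite_fibre {P X : Type*} [TopologicalSpace P] [TopologicalSpace X]
    (f : P → X) (hfc : Continuous f) (ho : IsOpenMap f) (hc : IsClosedMap f) (z : P)
    (hfin : (f ⁻¹' {f z}).Finite) :
    f '' connectedComponent z = connectedComponent (f z) ∧
      ∃ U : Set P, IsOpen U ∧ connectedComponent z = U ∩ f ⁻¹' connectedComponent (f z) := by
  let C := connectedComponent (f z)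
  have : PreconnectedSpace C :=
    isPreconnected_iff_preconnectedSpace.1 isPreconnected_connectedComponent
  let g : f ⁻¹' C → C := C.restrictPreimage f
  let z' : f ⁻¹' C := ⟨z, mem_connectedComponent⟩
  have hfin' : (g ⁻¹' {g z'}).Finite :=
    (hfin.preimage Subtype.val_injective.injOn).subset fun w hw => congrArg Subtype.val hw
  obtain ⟨⟨-, hopen⟩, himg⟩ :=
    clopen_component_of_finite_fibre g (ho.restrictPreimage C)
      (hc.restrictPreimage C) z' hfin'
  have hsub : connectedComponent z ⊆ f ⁻¹' C := fun x hx =>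
    hfc.image_connectedComponent_subset z ⟨x, hx, rfl⟩
  have heq : Subtype.val '' connectedComponent z' = connectedComponent z := by
    rw [← connectedComponentIn_eq_image z'.2]
    exact subset_antisymm
      (isPreconnected_connectedComponentIn.subset_connectedComponent (mem_connectedComponentIn z'.2))
      (isPreconnected_connectedComponent.subset_connectedComponentIn mem_connectedComponent hsub)
  obtain ⟨U, hU, hU'⟩ := isOpen_induced_iff.1 hopen
  refine ⟨subset_antisymm (hfc.image_connectedComponent_subset z) fun x hx => ?_, U, hU, ?_⟩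
  · obtain ⟨w, hw, hwx⟩ : (⟨x, hx⟩ : C) ∈ g '' connectedComponent z' := by rw [himg]; trivial
    exact ⟨w.1, heq ▸ ⟨w, hw, rfl⟩, congrArg Subtype.val hwx⟩
  · rw [← heq, ← hU', Subtype.image_preimage_coe, Set.inter_comm]

end Groth.Agent.FieldExtConn
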